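import Cfsg.Agent.Lib.Recog.PGLNse.Structure

/-!
# Groups with the order and the element counts of `PGL(2, q)`, `q` odd: counting incidences

The group acts sharply three times transitively on its `q + 1` Sylow subgroups, and every element
interchanging two of them is an involution.
-/

set_option autoImplicit false
set_option linter.unusedSectionVars false
set_option linter.style.haveILetI false

namespace Cfsg.Lib.Recog.PGLNse

open Subgroup Cfsg.Lib.Recog.SameOrderCounts
open scoped Pointwise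

universe u

variable {G : Type u} [Group G] [Finite G] {p k q : ℕ} [Fact p.Prime]

theorem smul_sylow_eq {g : G} {P : Sylow p G} (hg : g • P = P) {u : G} (hu : u ∈ (P : Subgroup G)) :
    g * u * g⁻¹ ∈ (P : Subgroup G) :=
  (mem_normalizer_iff.1 (Sylow.smul_eq_iff_mem_normalizer.1 hg) u).1 hu

theorem smul_self_of_mem {P : Sylow p G} {u : G} (hu : u ∈ (P : Subgroup G)) : u • P = P :=
  Sylow.smul_eq_iff_mem_normalizer.2 (Subgroup.le_normalizer hu)

variable (h : Hyp G p k q)

include h

theorem Hyp.exists_ne_one (P : Sylow p G) : ∃ u ∈ (P : Subgroup G), u ≠ 1 := by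
  rcases (P : Subgroup G).bot_or_exists_ne_one with e | e
  · have := h.card_sylow P
    rw [e, Subgroup.card_bot] at this
    have := h.three
    omega
  · exact e

theorem Hyp.eq_of_mem {P Q : Sylow p G} {u : G} (hu : u ≠ 1) (hP : u ∈ (P : Subgroup G))
    (hQ : u ∈ (Q : Subgroup G)) : P = Q :=
  Sylow.ext (((h.sylow_basic P).2.2 u hP hu).symm.trans ((h.sylow_basic Q).2.2 u hQ hu))

theorem Hyp.fixed_unique {P Q : Sylow p G} {u : G} (hu : u ≠ 1) (hP : u ∈ (P : Subgroup G))
    (hQ : u • Q = Q) : Q = P := by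
  have hz : IsPGroup p (zpowers u) := P.isPGroup'.to_le (zpowers_le.2 hP)
  have hm : u ∈ zpowers u ⊓ normalizer (Q : Set G) :=
    ⟨mem_zpowers u, Sylow.smul_eq_iff_mem_normalizer.1 hQ⟩
  rw [hz.inf_normalizer_sylow Q] at hm
  exact h.eq_of_mem hu hm.2 hP

/-- There are `q + 1` Sylow subgroups. -/
theorem Hyp.card_points : Nat.card (Sylow p G) = q + 1 := by
  classical
  haveI := Fintype.ofFinite G
  haveI : Fintype (Sylow p G) := Fintype.ofFinite _
  let Φ : (Σ P : Sylow p G, {u : ↥(P : Subgroup G) // u ≠ 1}) → {g : G // orderOf g = p} := fun a =>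
    ⟨(a.2.1 : G), h.order_mem a.2.1.2 fun e => a.2.2 (Subtype.ext e)⟩
  have hb : Function.Bijective Φ := by
    refine ⟨?_, fun g => ?_⟩
    · rintro ⟨P, ⟨⟨u, hu⟩, hu1⟩⟩ ⟨Q, ⟨⟨v, hv⟩, hv1⟩⟩ e
      obtain rfl : u = v := congrArg Subtype.val e
      obtain rfl : P = Q := h.eq_of_mem (fun e => hu1 (Subtype.ext e)) hu hv
      rfl
    · obtain ⟨P, hP⟩ := (IsPGroup.of_card (n := 1) (by rw [Nat.card_zpowers, g.2, pow_one]) :
        IsPGroup p (zpowers (g : G))).exists_le_sylow
      exact ⟨⟨P, ⟨⟨(g : G), hP (mem_zpowers _)⟩, fun e => by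
        have hg1 : (g : G) = 1 := congrArg Subtype.val e
        have := g.2
        rw [hg1, orderOf_one] at this
        exact h.prime.ne_one this.symm⟩⟩, rfl⟩
  have e := Nat.card_congr (Equiv.ofBijective Φ hb)
  rw [Nat.card_sigma, show Nat.card {g : G // orderOf g = p} = q ^ 2 - 1 from h.char,
    Finset.sum_congr rfl (g := fun _ => q - 1) fun P _ => ?_, Finset.sum_const, smul_eq_mul,
    Finset.card_univ, ← Nat.card_eq_fintype_card] at e
  · refine Nat.eq_of_mul_eq_mul_right (show 0 < q - 1 by have := h.three; omega) (e.trans ?_)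
    rw [← Nat.sq_sub_sq, one_pow]
  · rw [Nat.card_eq_fintype_card, Fintype.card_subtype_compl, Fintype.card_subtype_eq, ← Nat.card_eq_fintype_card,
      h.card_sylow]

/-- A Sylow subgroup acts regularly on the others. -/
theorem Hyp.regular {P Q R : Sylow p G} (hQ : Q ≠ P) (hR : R ≠ P) :
    ∃! u : ↥(P : Subgroup G), (u : G) • Q = R := by
  classical
  let f : ↥(P : Subgroup G) → {S : Sylow p G // S ≠ P} := fun u => ⟨(u : G) • Q, fun e => hQ
    (MulAction.injective (u : G) (e.trans (smul_self_of_mem u.2).symm))⟩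
  have hinj : Function.Injective f := by
    intro u v e
    by_contra hne
    refine hQ (h.fixed_unique (u := (v : G)⁻¹ * u) (fun e1 => hne (Subtype.ext (inv_mul_eq_one.1 e1).symm))
      (mul_mem (inv_mem v.2) u.2) ?_)
    rw [mul_smul, show (u : G) • Q = (v : G) • Q from congrArg Subtype.val e, inv_smul_smul]
  have hb : Function.Bijective f := (Nat.bijective_iff_injective_and_card f).2 ⟨hinj, by
    haveI : Fintype (Sylow p G) := Fintype.ofFinite _
    rw [h.card_sylow, Nat.card_eq_fintype_card, Fintype.card_subtype_compl, Fintype.card_subtype_eq,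
      ← Nat.card_eq_fintype_card, h.card_points, Nat.add_sub_cancel]⟩
  obtain ⟨u, hu⟩ := hb.2 ⟨R, hR⟩
  exact ⟨u, congrArg Subtype.val hu, fun v hv => hinj (Subtype.ext (hv.trans (congrArg Subtype.val hu).symm))⟩

/-- The stabiliser of two points is fixed point free on the first one. -/
theorem Hyp.fpf {P Q : Sylow p G} (hPQ : Q ≠ P) {d u : G} (hd : d • Q = Q) (hu : u ∈ (P : Subgroup G))
    (hu1 : u ≠ 1) (hc : d * u = u * d) : d = 1 := by
  by_contra hd1
  refine hPQ (h.fixed_unique hd1 ?_ hd)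
  rw [← (h.sylow_basic P).2.2 u hu hu1]
  exact mem_centralizer_singleton_iff.2 hc

/-- Only the identity fixes three points. -/
theorem Hyp.eq_one_of_three {P Q R : Sylow p G} {g : G} (hQ : Q ≠ P) (hR : R ≠ P) (hQR : R ≠ Q)
    (h1 : g • P = P) (h2 : g • Q = Q) (h3 : g • R = R) : g = 1 := by
  obtain ⟨u, hu, huniq⟩ := h.regular hQ hR
  refine h.fpf hQ h2 u.2 (fun e => hQR ?_) (mul_inv_eq_iff_eq_mul.1 (congrArg Subtype.val
    (huniq ⟨g * u * g⁻¹, smul_sylow_eq h1 u.2⟩ ?_)))
  · have hu' : (u : G) • Q = R := hu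
    rw [e, one_smul] at hu'
    exact hu'.symm
  · show (g * (u : G) * g⁻¹) • Q = R
    rw [mul_smul, mul_smul, show g⁻¹ • Q = Q from inv_smul_eq_iff.2 h2.symm, hu, h3]

/-- The stabiliser of two points has order `q - 1`. -/
theorem Hyp.card_pair {P Q : Sylow p G} (hQ : Q ≠ P) :
    Nat.card ↥(MulAction.stabilizer G P ⊓ MulAction.stabilizer G Q : Subgroup G) = q - 1 := by
  classical
  have hS : Nat.card ↥(MulAction.stabilizer G P) = q * (q - 1) := by
    have e := (MulAction.stabilizer G P).card_mul_index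
    rw [MulAction.index_stabilizer_of_transitive, h.card_points, h.card,
      show q ^ 2 - 1 = (q + 1) * (q - 1) by rw [← Nat.sq_sub_sq, one_pow]] at e
    exact Nat.eq_of_mul_eq_mul_right (Nat.succ_pos q) (e.trans (by rw [Nat.succ_eq_add_one]; ring))
  set D : Subgroup G := MulAction.stabilizer G P ⊓ MulAction.stabilizer G Q
  let f : ↥(P : Subgroup G) × D → ↥(MulAction.stabilizer G P) := fun ud =>
    ⟨(ud.1 : G) * ud.2, mul_mem (show (ud.1 : G) ∈ MulAction.stabilizer G P from smul_self_of_mem ud.1.2) ud.2.2.1⟩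
  have hb : Function.Bijective f := by
    constructor
    · rintro ⟨u, d⟩ ⟨v, e⟩ he
      have he' : (u : G) * d = v * e := congrArg Subtype.val he
      have hu : (u : G) • Q = (v : G) • Q := by
        have := congrArg (fun g : G => g • Q) he'
        simpa only [mul_smul, show (d : G) • Q = Q from d.2.2, show (e : G) • Q = Q from e.2.2] using this
      have hw : (v : G) • Q ≠ P := fun e1 =>
        hQ (MulAction.injective (v : G) (e1.trans (smul_self_of_mem v.2).symm))
      obtain rfl : u = v := (h.regular hQ hw).unique hu rfl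
      rw [Subtype.ext (mul_left_cancel he')]
    · intro g
      have hg : (g : G) • P = P := g.2
      have hw : (g : G) • Q ≠ P := fun e => hQ (MulAction.injective (g : G) (e.trans hg.symm))
      obtain ⟨u, hu, -⟩ := h.regular hQ hw
      refine ⟨(u, ⟨(u : G)⁻¹ * g, ?_, ?_⟩), Subtype.ext (mul_inv_cancel_left _ _)⟩
      · show ((u : G)⁻¹ * g) • P = P
        rw [mul_smul, hg, inv_smul_eq_iff, smul_self_of_mem u.2]
      · show ((u : G)⁻¹ * g) • Q = Q
        rw [mul_smul, inv_smul_eq_iff, hu]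
  have e := Nat.card_congr (Equiv.ofBijective f hb)
  rw [Nat.card_prod, h.card_sylow, hS] at e
  exact Nat.eq_of_mul_eq_mul_left (by have := h.three; omega) e

/-- Each Sylow subgroup is normalised by exactly `q` involutions. -/
theorem Hyp.card_fix (P : Sylow p G) : Nat.card {z : G // orderOf z = 2 ∧ z • P = P} = q := by
  haveI : Fact (Nat.Prime 2) := ⟨Nat.prime_two⟩
  obtain ⟨t, htt, ht1, hinv⟩ := (h.sylow_basic P).1
  have hti : t⁻¹ = t := inv_eq_of_mul_eq_one_right htt
  have htP : t • P = P := by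
    refine Sylow.smul_eq_iff_mem_normalizer.2 (mem_normalizer_iff.2 ?_)
    intro u
    rw [hti]
    refine ⟨fun hu => (hinv u hu).symm ▸ inv_mem hu, fun hu => ?_⟩
    have e := hinv _ hu
    rw [show t * (t * u * t) * t = t * t * u * (t * t) by group, htt, one_mul, mul_one] at e
    exact e ▸ inv_mem hu
  have hsq : ∀ u ∈ (P : Subgroup G), t * u * (t * u) = 1 := fun u hu => by
    rw [← mul_assoc, hinv u hu, inv_mul_cancel]
  have hne : ∀ u ∈ (P : Subgroup G), t * u ≠ 1 := fun u hu e => ht1 (by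
    have ht : t = u⁻¹ := eq_inv_of_mul_eq_one_left e
    by_contra h1
    exact h.ne_two ((Nat.prime_dvd_prime_iff_eq h.prime Nat.prime_two).1
      (h.order_mem (ht ▸ inv_mem hu) h1 ▸ orderOf_dvd_of_pow_eq_one (by rw [pow_two]; exact htt))))
  let f : ↥(P : Subgroup G) → {z : G // orderOf z = 2 ∧ z • P = P} := fun u =>
    ⟨t * u, orderOf_eq_prime (by rw [pow_two]; exact hsq u u.2) (hne u u.2),
      by rw [mul_smul, smul_self_of_mem u.2, htP]⟩
  rw [← h.card_sylow P]
  refine (Nat.card_eq_of_bijective f ⟨fun u v e => Subtype.ext (mul_left_cancel (congrArg Subtype.val e)),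
    fun z => ?_⟩).symm
  have hz2 : (z : G) * z = 1 := by
    have := pow_orderOf_eq_one (z : G)
    rwa [z.2.1, pow_two] at this
  have hzi : (z : G)⁻¹ = z := inv_eq_of_mul_eq_one_right hz2
  have hzinv := h.inverts (P := P) hz2 (fun e => by have := z.2.1; rw [e, orderOf_one] at this; omega)
    (fun u hu => by have := smul_sylow_eq z.2.2 hu; rwa [hzi] at this)
  obtain ⟨u, hu, hu1⟩ := h.exists_ne_one P
  refine ⟨⟨t * z, ?_⟩, Subtype.ext ?_⟩
  · rw [← (h.sylow_basic P).2.2 u hu hu1, mem_centralizer_singleton_iff]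
    have e1 := hinv _ (inv_mem hu)
    rw [inv_inv] at e1
    have e2 : (z : G) * u = u⁻¹ * z := by rw [← hzinv u hu, mul_assoc _ (z : G) (z : G), hz2, mul_one]
    have e3 : t * u⁻¹ = u * t := by
      calc t * u⁻¹ = t * u⁻¹ * (t * t) := by rw [htt, mul_one]
        _ = u * t := by rw [← mul_assoc, e1]
    rw [mul_assoc, e2, ← mul_assoc, e3, mul_assoc]
  · show t * (t * (z : G)) = z
    rw [← mul_assoc, htt, one_mul]

/-- Every ordered pair is swapped by an involution, and every element swapping it is an involution. -/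
theorem Hyp.swap {P Q : Sylow p G} (hQ : Q ≠ P) :
    (∃ t : G, t • P = Q ∧ t • Q = P) ∧ ∀ g : G, g • P = Q → g • Q = P → g * g = 1 := by
  classical
  haveI := Fintype.ofFinite G
  haveI : Fintype (Sylow p G) := Fintype.ofFinite _
  let I : Finset G := Finset.univ.filter fun z => orderOf z = 2
  have hI : I.card = q ^ 2 := by
    rw [← h.two, cnt, Nat.card_eq_fintype_card, Fintype.card_subtype]
  let O : Finset (Sylow p G × Sylow p G) := (Finset.univ : Finset (Sylow p G)).offDiag
  let Iv : Sylow p G × Sylow p G → Finset G := fun ab => I.filter fun z => z • ab.1 = ab.2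
  let Sw : Sylow p G × Sylow p G → Finset G := fun ab =>
    Finset.univ.filter fun g => g • ab.1 = ab.2 ∧ g • ab.2 = ab.1
  have hsub : ∀ ab, Iv ab ⊆ Sw ab := by
    intro ab z hz
    obtain ⟨hzI, hzab⟩ := Finset.mem_filter.1 hz
    refine Finset.mem_filter.2 ⟨Finset.mem_univ _, hzab, ?_⟩
    have := pow_orderOf_eq_one z
    rw [(Finset.mem_filter.1 hzI).2, pow_two] at this
    rw [← hzab, smul_smul, this, one_smul]
  have hSw : ∀ ab ∈ O, (Sw ab).card ≤ q - 1 := by
    intro ab hab
    obtain ⟨-, -, hne⟩ := Finset.mem_offDiag.1 hab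
    rcases (Sw ab).eq_empty_or_nonempty with e | ⟨g₀, hg₀⟩
    · simp [e]
    obtain ⟨-, h1, h2⟩ := Finset.mem_filter.1 hg₀
    rw [← h.card_pair hne.symm, Nat.card_eq_fintype_card, ← Finset.card_univ]
    refine Finset.card_le_card_of_injOn (fun g => if hg : g ∈ Sw ab then ⟨g₀⁻¹ * g,
      show (g₀⁻¹ * g) • ab.1 = ab.1 by rw [mul_smul, (Finset.mem_filter.1 hg).2.1, ← h1, inv_smul_smul],
      show (g₀⁻¹ * g) • ab.2 = ab.2 by rw [mul_smul, (Finset.mem_filter.1 hg).2.2, ← h2, inv_smul_smul]⟩
      else 1) (fun _ _ => Finset.mem_univ _) fun g hg g' hg' e => ?_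
    rw [Finset.mem_coe] at hg hg'
    simp only [dif_pos hg, dif_pos hg'] at e
    exact mul_left_cancel (congrArg Subtype.val e)
  -- incidences
  have htotal : ∑ ab ∈ O, (Iv ab).card = (q + 1) * (q * (q - 1)) := by
    have h1 : ∑ ab ∈ O, (Iv ab).card = ∑ a : Sylow p G, (I.filter fun z => ¬ z • a = a).card := by
      rw [← Finset.card_sigma, ← Finset.card_sigma]
      refine Finset.card_nbij' (fun x => ⟨x.1.1, x.2⟩) (fun x => ⟨(x.1, x.2 • x.1), x.2⟩) ?_ ?_ ?_ ?_
      · rintro ⟨⟨a, b⟩, z⟩ hx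
        simp only [Finset.mem_coe, Finset.mem_sigma, O, Iv, Finset.mem_offDiag, Finset.mem_filter] at hx ⊢
        exact ⟨Finset.mem_univ _, hx.2.1, fun e => hx.1.2.2 (e.symm.trans hx.2.2)⟩
      · rintro ⟨a, z⟩ hx
        simp only [Finset.mem_coe, Finset.mem_sigma, O, Iv, Finset.mem_offDiag, Finset.mem_filter] at hx ⊢
        exact ⟨⟨Finset.mem_univ _, Finset.mem_univ _, fun e => hx.2.2 e.symm⟩, hx.2.1, trivial⟩
      · rintro ⟨⟨a, b⟩, z⟩ hx
        simp only [Finset.mem_coe, Finset.mem_sigma, Iv, Finset.mem_filter] at hx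
        simp [hx.2.2]
      · intro x _
        rfl
    rw [h1, Finset.sum_congr rfl (g := fun _ => q ^ 2 - q) fun a _ => ?_, Finset.sum_const, smul_eq_mul,
      Finset.card_univ, ← Nat.card_eq_fintype_card, h.card_points, Nat.mul_sub q q 1, mul_one, pow_two]
    have h2 := Finset.card_filter_add_card_filter_not (s := I) (fun z => z • a = a)
    rw [hI, show (I.filter fun z => z • a = a).card = q by
      rw [Finset.filter_filter, ← Fintype.card_subtype, ← Nat.card_eq_fintype_card]; exact h.card_fix a] at h2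
    omega
  have hOcard : O.card = (q + 1) * q := by
    rw [Finset.offDiag_card, Finset.card_univ, ← Nat.card_eq_fintype_card, h.card_points,
      ← Nat.mul_sub_one, Nat.add_sub_cancel]
  have heq := (Finset.sum_eq_sum_iff_of_le (s := O) (f := fun ab => (Iv ab).card) (g := fun _ => q - 1)
    (fun ab hab => (Finset.card_le_card (hsub ab)).trans (hSw ab hab))).1 (by
      rw [htotal, Finset.sum_const, hOcard, smul_eq_mul, mul_assoc])
  have hmem : (P, Q) ∈ O := Finset.mem_offDiag.2 ⟨Finset.mem_univ _, Finset.mem_univ _, hQ.symm⟩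
  have hall : Iv (P, Q) = Sw (P, Q) :=
    Finset.eq_of_subset_of_card_le (hsub _) ((heq _ hmem).symm ▸ hSw _ hmem)
  constructor
  · obtain ⟨z, hz⟩ := Finset.card_pos.1 (show 0 < (Iv (P, Q)).card by
      rw [heq _ hmem]; have := h.three; omega)
    exact ⟨z, (Finset.mem_filter.1 (hsub _ hz)).2.1, (Finset.mem_filter.1 (hsub _ hz)).2.2⟩
  · intro g h1 h2
    have hg : g ∈ Iv (P, Q) := hall ▸ Finset.mem_filter.2 ⟨Finset.mem_univ _, h1, h2⟩
    rw [← pow_two, ← (Finset.mem_filter.1 (Finset.mem_filter.1 hg).1).2, pow_orderOf_eq_one]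

/-- The stabiliser of two points is abelian. -/
theorem Hyp.pair_comm {P Q : Sylow p G} (hQ : Q ≠ P) {d e : G} (hd : d • P = P ∧ d • Q = Q)
    (he : e • P = P ∧ e • Q = Q) : d * e = e * d := by
  obtain ⟨⟨t, htP, htQ⟩, hsw⟩ := h.swap hQ
  have htt := hsw t htP htQ
  have key : ∀ x : G, x • P = P ∧ x • Q = Q → t * x * t = x⁻¹ := fun x hx => eq_inv_of_mul_eq_one_left (by
    have := hsw (t * x) (by rw [mul_smul, hx.1, htP]) (by rw [mul_smul, hx.2, htQ])
    simpa [mul_assoc] using this)
  refine inv_injective ?_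
  rw [← key _ ⟨by rw [mul_smul, he.1, hd.1], by rw [mul_smul, he.2, hd.2]⟩, mul_inv_rev e d, ← key d hd,
    ← key e he]
  calc t * (d * e) * t = t * d * (t * t) * e * t := by rw [htt, mul_one]; group
    _ = _ := by group

end Cfsg.Lib.Recog.PGLNse
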