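import Cfsg.Agent.Lib.Recog.SameOrderCounts
import Cfsg.Agent.Lib.Dickson.Orders
import Mathlib

/-!
# Element counts in `PGL(2, q)`, `q` odd

There are `q²` involutions and `q² - 1` elements of order `p`; every other count, apart from that of
the identity, is a multiple of `q`, since the translations act freely on such elements.
-/

set_option autoImplicit false
set_option linter.unusedSectionVars false
set_option linter.style.haveILetI false

namespace Cfsg.Lib.Recog.PGLNse

open Matrix Matrix.ProjGenLinGroup Cfsg.Lib.Recog.SameOrderCounts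
open scoped MatrixGroups

variable {F : Type*} [Field F] [Fintype F]

local notation "M2" => Matrix (Fin 2) (Fin 2) F
local notation "H2" => Matrix.ProjGenLinGroup (Fin 2) F

/-- A class is trivial exactly when the matrix is a scalar. -/
theorem mk_one_iff (g : GL (Fin 2) F) :
    (mk g : H2) = 1 ↔ (g : M2) 0 1 = 0 ∧ (g : M2) 1 0 = 0 ∧ (g : M2) 0 0 = (g : M2) 1 1 := by
  rw [mk_eq_one, Matrix.GeneralLinearGroup.center_eq_range_scalar, MonoidHom.mem_range]
  constructor
  · rintro ⟨u, rfl⟩
    simp [Matrix.GeneralLinearGroup.scalar, Matrix.scalar_apply]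
  · rintro ⟨h1, h2, h3⟩
    have hd : (g : M2) 0 0 ≠ 0 := fun e => g.det_ne_zero (by rw [det_fin_two, e, h1]; ring)
    refine ⟨Units.mk0 _ hd, Units.ext ?_⟩
    ext i j
    fin_cases i <;> fin_cases j <;> simp [Matrix.scalar_apply, h1, h2, h3]

theorem mk_eq_iff (g g' : GL (Fin 2) F) :
    (mk g : H2) = mk g' ↔ ∃ u : F, u ≠ 0 ∧ (g' : M2) = u • (g : M2) := by
  rw [mk_eq_mk_iff]
  constructor
  · rintro ⟨u, rfl⟩
    refine ⟨u, u.ne_zero, ?_⟩
    ext i j
    fin_cases i <;> fin_cases j <;>
      simp [Matrix.mul_apply, Matrix.GeneralLinearGroup.scalar, Matrix.scalar_apply, mul_comm]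
  · rintro ⟨u, hu, e⟩
    refine ⟨Units.mk0 u hu, Units.ext ?_⟩
    rw [e]
    ext i j
    fin_cases i <;> fin_cases j <;>
      simp [Matrix.mul_apply, Matrix.GeneralLinearGroup.scalar, Matrix.scalar_apply, mul_comm]

theorem two_ne (p : ℕ) [Fact p.Prime] [CharP F p] (hp : p ≠ 2) : (2 : F) ≠ 0 :=
  Ring.two_ne_zero (by rwa [ringChar.eq F p])

/-- An involution comes from a matrix of trace zero. -/
theorem trace_zero {g : GL (Fin 2) F} (h2 : (mk g : H2) ^ 2 = 1) (h1 : (mk g : H2) ≠ 1) :
    (g : M2) 1 1 = -(g : M2) 0 0 := by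
  rw [← map_pow, mk_one_iff] at h2
  simp only [pow_two, Units.val_mul, Matrix.mul_apply, Fin.sum_univ_two] at h2
  obtain ⟨e1, e2, e3⟩ := h2
  by_contra ht
  have ht' : (g : M2) 0 0 + (g : M2) 1 1 ≠ 0 := fun e => ht (by linear_combination e)
  refine h1 ((mk_one_iff g).2 ⟨?_, ?_, ?_⟩)
  · exact (mul_eq_zero.1 (show ((g : M2) 0 0 + (g : M2) 1 1) * (g : M2) 0 1 = 0 by
      linear_combination e1)).resolve_left ht'
  · exact (mul_eq_zero.1 (show ((g : M2) 0 0 + (g : M2) 1 1) * (g : M2) 1 0 = 0 by
      linear_combination e2)).resolve_left ht'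
  · exact sub_eq_zero.1 ((mul_eq_zero.1 (show ((g : M2) 0 0 + (g : M2) 1 1) *
      ((g : M2) 0 0 - (g : M2) 1 1) = 0 by linear_combination e3)).resolve_left ht')

/-- A class of a matrix of trace zero is an involution. -/
theorem order_two (p : ℕ) [Fact p.Prime] [CharP F p] (hp : p ≠ 2) {g : GL (Fin 2) F}
    (h : (g : M2) 1 1 = -(g : M2) 0 0) : orderOf (mk g : H2) = 2 := by
  haveI : Fact (Nat.Prime 2) := ⟨Nat.prime_two⟩
  refine orderOf_eq_prime ?_ fun e => ?_
  · rw [← map_pow, mk_one_iff]
    simp only [pow_two, Units.val_mul, Matrix.mul_apply, Fin.sum_univ_two, h]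
    exact ⟨by ring, by ring, by ring⟩
  · obtain ⟨h1, h2, h3⟩ := (mk_one_iff g).1 e
    rw [h] at h3
    have h0 : (g : M2) 0 0 = 0 :=
      (mul_eq_zero.1 (show (2 : F) * (g : M2) 0 0 = 0 by linear_combination h3)).resolve_left (two_ne p hp)
    exact g.det_ne_zero (by rw [det_fin_two, h0, h1]; ring)

open scoped Classical in
/-- A matrix of trace zero for each pair. -/
noncomputable def involMat (ab : F × F) : GL (Fin 2) F :=
  if h : ab.1 * ab.1 + ab.2 = 0 then
    GeneralLinearGroup.mkOfDetNeZero !![1, ab.1; 0, -1] (by simp [det_fin_two])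
  else GeneralLinearGroup.mkOfDetNeZero !![ab.1, ab.2; 1, -ab.1] (by
    rw [det_fin_two]
    simp only [Matrix.of_apply, Matrix.cons_val', Matrix.cons_val_zero, Matrix.cons_val_one,
      Matrix.empty_val', Matrix.cons_val_fin_one]
    exact fun e => h (by linear_combination -e))

theorem involMat_pos {ab : F × F} (h : ab.1 * ab.1 + ab.2 = 0) :
    (involMat ab : M2) = !![1, ab.1; 0, -1] := by
  rw [involMat, dif_pos h]; rfl

theorem involMat_neg {ab : F × F} (h : ab.1 * ab.1 + ab.2 ≠ 0) :
    (involMat ab : M2) = !![ab.1, ab.2; 1, -ab.1] := by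
  rw [involMat, dif_neg h]; rfl

/-- There are `q²` involutions. -/
theorem cnt_two (p : ℕ) [Fact p.Prime] [CharP F p] (hp : p ≠ 2) :
    cnt H2 2 = Fintype.card F ^ 2 := by
  classical
  have htr : ∀ ab : F × F, (involMat ab : M2) 1 1 = -(involMat ab : M2) 0 0 := fun ab => by
    by_cases h : ab.1 * ab.1 + ab.2 = 0
    · rw [involMat_pos h]; simp
    · rw [involMat_neg h]; simp
  let Φ : F × F → {g : H2 // orderOf g = 2} := fun ab => ⟨mk (involMat ab), order_two p hp (htr ab)⟩
  have hb : Function.Bijective Φ := by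
    constructor
    · intro ab cd e
      obtain ⟨u, hu, e⟩ := (mk_eq_iff _ _).1 (congrArg Subtype.val e)
      by_cases h : ab.1 * ab.1 + ab.2 = 0 <;> by_cases h' : cd.1 * cd.1 + cd.2 = 0
      · rw [involMat_pos h, involMat_pos h'] at e
        have e0 := congrFun (congrFun e 0) 0
        have e1 := congrFun (congrFun e 0) 1
        simp at e0 e1
        rw [← e0, one_mul] at e1
        exact Prod.ext e1.symm (by
          calc ab.2 = -(ab.1 * ab.1) := by linear_combination h
            _ = cd.2 := by rw [← e1]; linear_combination -h')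
      · rw [involMat_pos h, involMat_neg h'] at e
        have e0 := congrFun (congrFun e 1) 0
        simp at e0
      · rw [involMat_neg h, involMat_pos h'] at e
        have e0 := congrFun (congrFun e 1) 0
        simp at e0
        exact absurd e0.symm hu
      · rw [involMat_neg h, involMat_neg h'] at e
        have e0 := congrFun (congrFun e 1) 0
        have e1 := congrFun (congrFun e 0) 0
        have e2 := congrFun (congrFun e 0) 1
        simp at e0 e1 e2
        rw [← e0, one_mul] at e1 e2
        exact Prod.ext e1.symm e2.symm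
    · rintro ⟨g, hg⟩
      obtain ⟨g, rfl⟩ := mk_surjective g
      have ht := trace_zero (g := g) (by have := pow_orderOf_eq_one (mk g : H2); rwa [hg] at this)
        (fun e => by rw [e, orderOf_one] at hg; omega)
      have hdet := g.det_ne_zero
      rw [det_fin_two, ht] at hdet
      by_cases hc : (g : M2) 1 0 = 0
      · have ha : (g : M2) 0 0 ≠ 0 := fun e => hdet (by rw [e, hc]; ring)
        refine ⟨((g : M2) 0 1 / (g : M2) 0 0, -((g : M2) 0 1 / (g : M2) 0 0 * ((g : M2) 0 1 / (g : M2) 0 0))),
          Subtype.ext ((mk_eq_iff _ _).2 ⟨(g : M2) 0 0, ha, ?_⟩)⟩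
        rw [involMat_pos (by ring)]
        ext i j
        fin_cases i <;> fin_cases j <;> simp [hc, ht, mul_div_cancel₀ _ ha]
      · refine ⟨((g : M2) 0 0 / (g : M2) 1 0, (g : M2) 0 1 / (g : M2) 1 0),
          Subtype.ext ((mk_eq_iff _ _).2 ⟨(g : M2) 1 0, hc, ?_⟩)⟩
        rw [involMat_neg (fun e => hdet (by
          field_simp at e
          linear_combination -e))]
        ext i j
        fin_cases i <;> fin_cases j <;> simp [ht, mul_div_cancel₀ _ hc]
  rw [cnt, ← Nat.card_congr (Equiv.ofBijective Φ hb), Nat.card_prod, Nat.card_eq_fintype_card, pow_two]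

/-- An element of order `p` comes from a unipotent matrix. -/
theorem exists_unipotent (p : ℕ) [Fact p.Prime] [CharP F p] {g : H2} (hg : orderOf g = p) :
    ∃ a b c : F, (a ≠ 0 ∨ b ≠ 0 ∨ c ≠ 0) ∧ a * a + b * c = 0 ∧
      ∀ u : GL (Fin 2) F, (u : M2) = !![1 + a, b; c, 1 - a] → g = mk u := by
  have hp : p.Prime := Fact.out
  obtain ⟨g, rfl⟩ := mk_surjective g
  have h1 := pow_orderOf_eq_one (mk g : H2)
  rw [hg, ← map_pow, mk_one_iff, Units.val_pow_eq_pow_val] at h1
  set M : M2 := (g : M2) with hM
  obtain ⟨e1, e2, e3⟩ := h1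
  obtain ⟨d, hd⟩ := (Finite.injective_iff_surjective.mp (frobenius_inj F p)) ((M ^ p) 0 0)
  rw [frobenius_def] at hd
  have hMp : M ^ p = d ^ p • (1 : M2) := by
    rw [hd]
    ext i j
    fin_cases i <;> fin_cases j <;> simp [e1, e2, e3]
  have hd0 : d ≠ 0 := fun e => by
    rw [e, zero_pow hp.ne_zero, zero_smul] at hMp
    have := congrArg Matrix.det hMp
    rw [det_pow, det_zero] at this
    exact g.det_ne_zero (pow_eq_zero_iff hp.ne_zero |>.1 this)
  set N : M2 := d⁻¹ • M - 1 with hN
  have hNp : N ^ p = 0 := by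
    rw [hN, sub_pow_char_of_commute p (Commute.one_right _), smul_pow, hMp, smul_smul, one_pow, inv_pow,
      inv_mul_cancel₀ (pow_ne_zero _ hd0), one_smul, sub_self]
  have hdet : N 0 0 * N 1 1 - N 0 1 * N 1 0 = 0 := by
    have h := congrArg Matrix.det hNp
    rw [det_pow, det_zero, pow_eq_zero_iff hp.ne_zero, det_fin_two] at h
    exact h
  have hsq : N * N = (N 0 0 + N 1 1) • N := by
    ext i j
    fin_cases i <;> fin_cases j <;>
      simp only [Matrix.mul_apply, Fin.sum_univ_two, Fin.zero_eta, Fin.mk_one, Matrix.smul_apply, smul_eq_mul]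
    · linear_combination -hdet
    · ring
    · ring
    · linear_combination -hdet
  have hpow : ∀ n : ℕ, N ^ (n + 1) = (N 0 0 + N 1 1) ^ n • N := by
    intro n
    induction n with
    | zero => simp
    | succ n ih => rw [pow_succ, ih, Matrix.smul_mul, hsq, smul_smul, ← pow_succ]
  have hN0 : N ≠ 0 := fun e => by
    have hM1 : M = d • (1 : M2) := by
      have h : d • (d⁻¹ • M) = d • (1 : M2) := by rw [sub_eq_zero.1 (hN.symm.trans e)]
      rwa [smul_smul, mul_inv_cancel₀ hd0, one_smul] at h
    have : (mk g : H2) = 1 := (mk_one_iff g).2 (by rw [← hM, hM1]; simp)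
    rw [this, orderOf_one] at hg
    exact hp.ne_one hg.symm
  have ht : N 0 0 + N 1 1 = 0 := by
    have h := hpow (p - 1)
    rw [Nat.sub_add_cancel hp.one_le, hNp] at h
    rcases smul_eq_zero.1 h.symm with h | h
    · exact (pow_eq_zero_iff (by have := hp.two_le; omega)).1 h
    · exact absurd h hN0
  refine ⟨N 0 0, N 0 1, N 1 0, ?_, by linear_combination N 0 0 * ht - hdet, fun u hu => ?_⟩
  · by_contra hh
    push Not at hh
    refine hN0 ?_
    ext i j
    fin_cases i <;> fin_cases j
    exacts [hh.1, hh.2.1, hh.2.2, by simpa [hh.1] using ht]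
  · refine (mk_eq_iff g u).2 ⟨d⁻¹, inv_ne_zero hd0, ?_⟩
    rw [hu, ← hM, show d⁻¹ • M = N + 1 by rw [hN, sub_add_cancel]]
    ext i j
    fin_cases i <;> fin_cases j <;> simp
    · ring
    · linear_combination -ht

open scoped Classical in
/-- A unipotent matrix for each pair. -/
noncomputable def unipMat (ac : F × F) : GL (Fin 2) F :=
  if h : ac.2 = 0 then GeneralLinearGroup.mkOfDetNeZero !![1, ac.1; 0, 1] (by simp [det_fin_two])
  else GeneralLinearGroup.mkOfDetNeZero !![1 + ac.1, -(ac.1 * ac.1) / ac.2; ac.2, 1 - ac.1] (by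
    rw [det_fin_two]
    simp only [Matrix.of_apply, Matrix.cons_val', Matrix.cons_val_zero, Matrix.cons_val_one,
      Matrix.empty_val', Matrix.cons_val_fin_one]
    rw [div_mul_cancel₀ _ h, show (1 + ac.1) * (1 - ac.1) - -(ac.1 * ac.1) = 1 by ring]
    exact one_ne_zero)

theorem unipMat_pos {ac : F × F} (h : ac.2 = 0) : (unipMat ac : M2) = !![1, ac.1; 0, 1] := by
  rw [unipMat, dif_pos h]; rfl

theorem unipMat_neg {ac : F × F} (h : ac.2 ≠ 0) :
    (unipMat ac : M2) = !![1 + ac.1, -(ac.1 * ac.1) / ac.2; ac.2, 1 - ac.1] := by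
  rw [unipMat, dif_neg h]; rfl

/-- There are `q² - 1` elements of order `p`. -/
theorem cnt_char (p : ℕ) [Fact p.Prime] [CharP F p] (hp : p ≠ 2) :
    cnt H2 p = Fintype.card F ^ 2 - 1 := by
  classical
  have hpp : p.Prime := Fact.out
  have hord : ∀ ac : F × F, ac ≠ 0 → orderOf (mk (unipMat ac) : H2) = p := by
    intro ac hac
    refine orderOf_eq_prime ?_ fun e => ?_
    · rw [← map_pow, mk_one_iff, Units.val_pow_eq_pow_val]
      have hN : ∃ N : M2, N * N = 0 ∧ (unipMat ac : M2) = 1 + N := by
        by_cases h : ac.2 = 0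
        · refine ⟨!![0, ac.1; 0, 0], ?_, ?_⟩
          · ext i j; fin_cases i <;> fin_cases j <;> simp
          · rw [unipMat_pos h]; ext i j; fin_cases i <;> fin_cases j <;> simp
        · refine ⟨!![ac.1, -(ac.1 * ac.1) / ac.2; ac.2, -ac.1], ?_, ?_⟩
          · ext i j
            fin_cases i <;> fin_cases j <;> simp [div_mul_cancel₀ _ h, mul_div_cancel₀ _ h] <;> ring
          · rw [unipMat_neg h]; ext i j; fin_cases i <;> fin_cases j <;> simp [sub_eq_add_neg]
      obtain ⟨N, hN2, e⟩ := hN
      rw [e, add_pow_char_of_commute p (Commute.one_left N), one_pow,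
        show N ^ p = 0 by
          rw [← Nat.sub_add_cancel hpp.two_le, pow_add, pow_two, hN2, mul_zero]]
      simp
    · obtain ⟨h1, h2, -⟩ := (mk_one_iff _).1 e
      by_cases h : ac.2 = 0
      · rw [unipMat_pos h] at h1
        simp at h1
        exact hac (Prod.ext h1 h)
      · rw [unipMat_neg h] at h2
        simp at h2
        exact h h2
  let Φ : {ac : F × F // ac ≠ 0} → {g : H2 // orderOf g = p} := fun ac => ⟨mk (unipMat ac.1), hord _ ac.2⟩
  have htwo := two_ne (F := F) p hp
  have htrace : ∀ ac : F × F, (unipMat ac : M2) 0 0 + (unipMat ac : M2) 1 1 = 2 := fun ac => by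
    by_cases h : ac.2 = 0
    · rw [unipMat_pos h]; simp; norm_num
    · rw [unipMat_neg h]; simp; ring
  have hb : Function.Bijective Φ := by
    constructor
    · intro ac bd e
      obtain ⟨u, -, e⟩ := (mk_eq_iff _ _).1 (congrArg Subtype.val e)
      have hu : u = 1 := by
        have t1 := htrace bd.1
        rw [e] at t1
        simp only [Matrix.smul_apply, smul_eq_mul, ← mul_add, htrace ac.1] at t1
        exact mul_right_cancel₀ htwo (by rw [t1, one_mul])
      rw [hu, one_smul] at e
      refine Subtype.ext ?_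
      by_cases h : ac.1.2 = 0 <;> by_cases h' : bd.1.2 = 0
      · rw [unipMat_pos h, unipMat_pos h'] at e
        have e1 := congrFun (congrFun e 0) 1
        simp at e1
        exact Prod.ext e1.symm (h.trans h'.symm)
      · rw [unipMat_pos h, unipMat_neg h'] at e
        have e1 := congrFun (congrFun e 1) 0
        simp at e1
        exact absurd e1 h'
      · rw [unipMat_neg h, unipMat_pos h'] at e
        have e1 := congrFun (congrFun e 1) 0
        simp at e1
        exact absurd e1.symm h
      · rw [unipMat_neg h, unipMat_neg h'] at e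
        have e0 := congrFun (congrFun e 0) 0
        have e1 := congrFun (congrFun e 1) 0
        simp at e0 e1
        exact Prod.ext e0.symm e1.symm
    · rintro ⟨g, hg⟩
      obtain ⟨a, b, c, hne, he, hu⟩ := exists_unipotent p hg
      by_cases hc : c = 0
      · have ha : a = 0 := by rw [hc] at he; simpa using he
        have hb0 : b ≠ 0 := by rcases hne with h | h | h <;> first | exact h | contradiction
        refine ⟨⟨(b, 0), fun e => hb0 (congrArg Prod.fst e)⟩, Subtype.ext (hu _ ?_).symm⟩
        rw [unipMat_pos rfl, ha, hc]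
        simp
      · refine ⟨⟨(a, c), fun e => hc (congrArg Prod.snd e)⟩, Subtype.ext (hu _ ?_).symm⟩
        rw [unipMat_neg hc]
        simp only [show -(a * a) / c = b by field_simp; linear_combination -he]
  rw [cnt, ← Nat.card_congr (Equiv.ofBijective Φ hb), Nat.card_eq_fintype_card]
  rw [Fintype.card_subtype_compl, Fintype.card_prod, Fintype.card_subtype_eq, pow_two]

/-- The translations. -/
noncomputable def trans : Multiplicative F →* H2 where
  toFun t := mk (GeneralLinearGroup.mkOfDetNeZero !![1, t.toAdd; 0, 1] (by simp [det_fin_two]))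
  map_one' := by
    rw [mk_one_iff]
    simp [GeneralLinearGroup.mkOfDetNeZero]
  map_mul' s t := by
    rw [← map_mul]
    congr 1
    apply Units.ext
    ext i j
    fin_cases i <;> fin_cases j <;>
      simp [GeneralLinearGroup.mkOfDetNeZero, Matrix.mul_apply, Fin.sum_univ_two, add_comm]

/-- Elements commuting with a translation have order one or `p`. -/
theorem order_of_commute (p : ℕ) [Fact p.Prime] [CharP F p] {g : H2} {t : Multiplicative F}
    (ht : t ≠ 1) (hc : trans t * g = g * trans t) : g ^ p = 1 := by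
  obtain ⟨g, rfl⟩ := mk_surjective g
  have hpp : p.Prime := Fact.out
  have ht0 : t.toAdd ≠ 0 := fun e => ht (Multiplicative.toAdd.injective e)
  simp only [trans, MonoidHom.coe_mk, OneHom.coe_mk, ← map_mul] at hc
  obtain ⟨u, hu, e⟩ := (mk_eq_iff _ _).1 hc
  have e00 := congrFun (congrFun e 0) 0
  have e01 := congrFun (congrFun e 0) 1
  have e10 := congrFun (congrFun e 1) 0
  have e11 := congrFun (congrFun e 1) 1
  simp [GeneralLinearGroup.mkOfDetNeZero, Matrix.mul_apply, Fin.sum_univ_two,
    Matrix.vecMul, dotProduct] at e00 e01 e10 e11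
  have hdet := g.det_ne_zero
  rw [det_fin_two] at hdet
  have hc0 : (g : M2) 1 0 = 0 := by
    by_contra hne
    have hu1 : u = 1 := mul_right_cancel₀ hne (by linear_combination -e10)
    subst hu1
    exact hne ((mul_eq_zero.1 (show t.toAdd * (g : M2) 1 0 = 0 by linear_combination -e00)).resolve_left ht0)
  have ha : (g : M2) 0 0 ≠ 0 := fun e => hdet (by rw [e, hc0]; ring)
  have hu1 : u = 1 := mul_right_cancel₀ ha (by rw [hc0] at e00; linear_combination -e00)
  subst hu1
  have had : (g : M2) 0 0 = (g : M2) 1 1 :=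
    mul_left_cancel₀ ht0 (by linear_combination e01)
  rw [← map_pow, mk_one_iff, Units.val_pow_eq_pow_val]
  set N : M2 := !![0, (g : M2) 0 1; 0, 0] with hN
  have e : (g : M2) = (g : M2) 0 0 • (1 : M2) + N := by
    ext i j
    fin_cases i <;> fin_cases j <;> simp [hN, hc0, ← had]
  have hN2 : N * N = 0 := by ext i j; fin_cases i <;> fin_cases j <;> simp [hN]
  rw [e, add_pow_char_of_commute p ((Commute.one_left N).smul_left _), smul_pow, one_pow,
    show N ^ p = 0 by rw [← Nat.sub_add_cancel hpp.two_le, pow_add, pow_two, hN2, mul_zero], add_zero]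
  simp

/-- All other counts are multiples of `q`. -/
theorem dvd_cnt (p : ℕ) [Fact p.Prime] [CharP F p] (hp : p ≠ 2) {n : ℕ} (h1 : n ≠ 1) (hn : n ≠ p) :
    Fintype.card F ∣ cnt H2 n := by
  classical
  have hpp : p.Prime := Fact.out
  haveI : Finite H2 := Finite.of_surjective _ (mk_surjective (n := Fin 2) (R := F))
  let X := {g : H2 // orderOf g = n}
  letI : MulAction (Multiplicative F) X :=
    { smul := fun t g => ⟨trans t * g.1 * (trans t)⁻¹, by
        rw [← MulAut.conj_apply, MulEquiv.orderOf_eq, g.2]⟩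
      one_smul := fun g => Subtype.ext (show trans 1 * g.1 * (trans 1)⁻¹ = g.1 by simp)
      mul_smul := fun s t g => Subtype.ext (show trans (s * t) * g.1 * (trans (s * t))⁻¹ =
        trans s * (trans t * g.1 * (trans t)⁻¹) * (trans s)⁻¹ by simp [mul_assoc]) }
  have hfree : ∀ g : X, MulAction.stabilizer (Multiplicative F) g = ⊥ := by
    intro g
    rw [Subgroup.eq_bot_iff_forall]
    intro t ht
    by_contra hne
    have hc : trans t * g.1 = g.1 * trans t :=
      mul_inv_eq_iff_eq_mul.1 (congrArg Subtype.val (MulAction.mem_stabilizer_iff.1 ht))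
    rcases (Nat.dvd_prime hpp).1 (g.2 ▸ orderOf_dvd_of_pow_eq_one (order_of_commute p hne hc)) with e | e
    · exact h1 e
    · exact hn e
  have e := Nat.card_congr (MulAction.selfEquivSigmaOrbits (Multiplicative F) X)
  rw [cnt, show Nat.card {g : H2 // orderOf g = n} = Nat.card X from rfl, e]
  haveI : Fintype (MulAction.orbitRel.Quotient (Multiplicative F) X) := Fintype.ofFinite _
  rw [Nat.card_sigma]
  refine Finset.dvd_sum fun ω _ => ?_
  rw [Nat.card_congr (MulAction.orbitEquivQuotientStabilizer (Multiplicative F) ω.out),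
    ← Subgroup.index, hfree, Subgroup.index_bot, ← Nat.card_eq_fintype_card]
  exact dvd_of_eq (Nat.card_congr Multiplicative.toAdd).symm

end Cfsg.Lib.Recog.PGLNse
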