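import Cfsg.Agent.Lib.Recog.PGLNse.Action
import Cfsg.Agent.Lib.Recog.PGLNse.Counts
import Cfsg.Agent.Lib.Perm.ZasAbelian.SharpThree

/-!
# `PGL(2, q)`, `q` odd, is determined by its order and element counts

A Sylow subgroup is the additive group of the field, and the stabiliser of two points its
multiplicative group; an element interchanging the two points is `x ↦ c / x`.
-/

set_option autoImplicit false
set_option linter.unusedSectionVars false
set_option linter.style.haveILetI false

namespace Cfsg.Lib.Recog.PGLNse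

open Subgroup Cfsg.Lib.Recog.SameOrderCounts
open Cfsg.Lib.Perm.ZasAbelian (exists_field_coord pgl_toPerm_injective)
open scoped OnePoint Pointwise
open OnePoint

universe u v

set_option maxHeartbeats 800000

/-- A group with these numerical properties is `PGL(2, F)`. -/
theorem Hyp.iso {G : Type u} [Group G] [Finite G] {p k q : ℕ} [Fact p.Prime] (h : Hyp G p k q)
    (K : Type) [Field K] [Fintype K] (hK : Fintype.card K = q) :
    Nonempty (G ≃* Matrix.ProjGenLinGroup (Fin 2) K) := by
  classical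
  haveI : Fintype (Sylow p G) := Fintype.ofFinite _
  haveI : Nontrivial (Sylow p G) := Finite.one_lt_card_iff_nontrivial.1 (by
    rw [h.card_points]; have := h.three; omega)
  obtain ⟨P, Q, hPQ⟩ := exists_pair_ne (Sylow p G)
  have hQ : Q ≠ P := hPQ.symm
  set D : Subgroup G := MulAction.stabilizer G P ⊓ MulAction.stabilizer G Q with hD
  have hDc : Nat.card D = q - 1 := h.card_pair hQ
  letI instP : CommGroup ↥(P : Subgroup G) := { (inferInstance : Group ↥(P : Subgroup G)) with
    mul_comm := fun u v => Subtype.ext ((h.sylow_basic P).2.1 u u.2 v v.2) }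
  letI instD : CommGroup D := { (inferInstance : Group D) with
    mul_comm := fun d e => Subtype.ext (h.pair_comm hQ d.2 e.2) }
  -- the squares in the stabilizer
  let sqr : D →* D := powMonoidHom 2
  have hker : Nat.card sqr.ker = 2 := by
    haveI : Fact (Nat.Prime 2) := ⟨Nat.prime_two⟩
    obtain ⟨z, hz⟩ := exists_prime_orderOf_dvd_card' (G := D) 2 (hDc ▸ (h.qodd.tsub_odd odd_one).two_dvd)
    obtain ⟨u, hu, hu1⟩ := h.exists_ne_one P
    have hinv : ∀ d : D, d * d = 1 → d ≠ 1 → (d : G) * u * d = u⁻¹ := fun d hd hd1 => by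
      have hd' : (d : G) * d = 1 := congrArg Subtype.val hd
      refine h.inverts hd' (fun e => hd1 (Subtype.ext e)) (fun v hv => ?_) u hu
      have := smul_sylow_eq (show (d : G) • P = P from d.2.1) hv
      rwa [inv_eq_of_mul_eq_one_right hd'] at this
    have hz2 : z * z = 1 := by rw [← pow_two, ← hz, pow_orderOf_eq_one]
    have hz1 : z ≠ 1 := fun e => by rw [e, orderOf_one] at hz; omega
    rw [Nat.card_eq_two_iff]
    refine ⟨⟨1, map_one _⟩, ⟨z, (pow_two z).trans hz2⟩, fun e => hz1 (congrArg Subtype.val e).symm, ?_⟩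
    rw [Set.eq_univ_iff_forall]
    rintro ⟨d, hd⟩
    have hd' : d * d = 1 := (pow_two d).symm.trans hd
    by_cases hd1 : d = 1
    · exact Or.inl (Subtype.ext hd1)
    refine Or.inr (Subtype.ext ?_)
    show d = z
    have e1 := hinv d hd' hd1
    have e2 := hinv z hz2 hz1
    have hc : ((z * d : D) : G) * u = u * ((z * d : D) : G) := by
      rw [Subgroup.coe_mul]
      have hzz : (z : G) * z = 1 := congrArg Subtype.val hz2
      have hdd : (d : G) * d = 1 := congrArg Subtype.val hd'
      have e1' : (d : G) * u = u⁻¹ * d := by rw [← e1, mul_assoc _ (d : G) (d : G), hdd, mul_one]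
      have e2' : (z : G) * u⁻¹ = u * z := by
        rw [← e2]
        calc (z : G) * ((z : G) * u * z) = z * z * u * z := by group
          _ = u * z := by rw [hzz, one_mul]
      rw [mul_assoc, e1', ← mul_assoc, e2', mul_assoc]
    have h1 : z * d = 1 := Subtype.ext (h.fpf hQ (z * d).2.2 hu hu1 hc)
    calc d = z * (z * d) := by rw [← mul_assoc, hz2, one_mul]
      _ = z := by rw [h1, mul_one]
  have hrange : 2 * Nat.card sqr.range = q - 1 := by
    rw [← hDc, ← sqr.ker.card_mul_index, hker, Subgroup.index_ker]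
  -- the action by conjugation
  have hmemP : ∀ (d : D) (u : ↥(P : Subgroup G)), (d : G) * u * (d : G)⁻¹ ∈ (P : Subgroup G) :=
    fun d u => smul_sylow_eq d.2.1 u.2
  let cj : D → AddMonoid.End (Additive ↥(P : Subgroup G)) := fun d =>
    { toFun := fun v => Additive.ofMul ⟨(d : G) * (v.toMul : G) * (d : G)⁻¹, hmemP d v.toMul⟩
      map_zero' := by
        apply Additive.toMul.injective
        exact Subtype.ext (show (d : G) * 1 * (d : G)⁻¹ = 1 by simp)
      map_add' := fun v w => by
        apply Additive.toMul.injective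
        exact Subtype.ext (show (d : G) * ((v.toMul : G) * w.toMul) * (d : G)⁻¹ =
          (d : G) * v.toMul * (d : G)⁻¹ * ((d : G) * w.toMul * (d : G)⁻¹) by group) }
  let ρ : sqr.range →* AddMonoid.End (Additive ↥(P : Subgroup G)) :=
    { toFun := fun x => cj x
      map_one' := by
        refine AddMonoidHom.ext fun v => Additive.toMul.injective (Subtype.ext ?_)
        show (1 : G) * v.toMul * (1 : G)⁻¹ = v.toMul
        simp
      map_mul' := fun x y => by
        refine AddMonoidHom.ext fun v => Additive.toMul.injective (Subtype.ext ?_)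
        show ((x : D) : G) * (y : D) * v.toMul * (((x : D) : G) * (y : D))⁻¹ =
          ((x : D) : G) * (((y : D) : G) * v.toMul * ((y : D) : G)⁻¹) * ((x : D) : G)⁻¹
        group }
  have hfix : ∀ (d : D) (v : Additive ↥(P : Subgroup G)), cj d v = v → v ≠ 0 → d = 1 := fun d v e hv =>
    Subtype.ext (h.fpf hQ d.2.2 v.toMul.2
      (fun e1 => hv (Additive.toMul.injective (Subtype.ext e1)))
      (mul_inv_eq_iff_eq_mul.1 (congrArg (fun w : Additive ↥(P : Subgroup G) => (w.toMul : G)) e)))
  obtain ⟨ι, χ, -, hχ, hsq⟩ := exists_field_coord ρ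
    (fun x hx v e => by
      by_contra hv
      exact hx (Subtype.ext (hfix x v e hv)))
    (by
      rw [show Nat.card (Additive ↥(P : Subgroup G)) = q from
        (Nat.card_congr Additive.toMul).trans (h.card_sylow P), hrange]
      have := h.three
      omega)
    K (hK.trans ((Nat.card_congr Additive.toMul).trans (h.card_sylow P)).symm)
  have hKodd : Fintype.card K % 2 = 1 := hK.symm ▸ Nat.odd_iff.1 h.qodd
  -- every element of the stabilizer is a scalar
  have hscal : ∀ d : D, ∃ c : K, c ≠ 0 ∧ ∀ a, cj d (ι a) = ι (c * a) := by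
    intro d
    let L : K → K := fun a => ι.symm (cj d (ι a))
    have hL : ∀ a, cj d (ι a) = ι (L a) := fun a => (ι.apply_symm_apply _).symm
    have hLadd : ∀ a b, L (a + b) = L a + L b := fun a b => by simp [L, map_add]
    have hL0 : L 0 = 0 := by simp [L]
    have hLs : ∀ s : K, IsSquare s → ∀ a, L (s * a) = s * L a := by
      intro s hs a
      by_cases hs0 : s = 0
      · simp [hs0, hL0]
      obtain ⟨x, rfl⟩ := (hsq s hs0).1 hs
      refine ι.injective ?_
      rw [← hL, ← hχ, ← hχ, ← hL]
      have hcm : ((x : D) : G) * d = d * (x : D) := h.pair_comm hQ (x : D).2 d.2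
      refine Additive.toMul.injective (Subtype.ext ?_)
      show (d : G) * (((x : D) : G) * (ι a).toMul * ((x : D) : G)⁻¹) * (d : G)⁻¹ =
        ((x : D) : G) * ((d : G) * (ι a).toMul * (d : G)⁻¹) * ((x : D) : G)⁻¹
      calc _ = ((d : G) * (x : D)) * (ι a).toMul * ((d : G) * (x : D))⁻¹ := by group
        _ = _ := by rw [← hcm]; group
    have hLmul : ∀ s a, L (s * a) = s * L a := by
      intro s a
      obtain ⟨u, w, huw⟩ := FiniteField.exists_root_sum_quadratic (f := (Polynomial.X : Polynomial K) ^ 2)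
        (g := Polynomial.X ^ 2 - Polynomial.C s) (Polynomial.degree_X_pow 2)
        (Polynomial.degree_X_pow_sub_C two_pos s) hKodd
      simp only [Polynomial.eval_pow, Polynomial.eval_X, Polynomial.eval_sub, Polynomial.eval_C] at huw
      rw [show s = u ^ 2 + w ^ 2 by linear_combination -huw, add_mul, hLadd, hLs _ ⟨u, pow_two u⟩,
        hLs _ ⟨w, pow_two w⟩, add_mul]
    refine ⟨L 1, fun e => ?_, fun a => ?_⟩
    · have h1 := hL 1
      rw [e, map_zero] at h1
      have hmul : (d : G) * (ι (1 : K)).toMul * (d : G)⁻¹ = 1 :=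
        congrArg (fun w : Additive ↥(P : Subgroup G) => (w.toMul : G)) h1
      rw [conj_eq_one_iff] at hmul
      have hι : ι (1 : K) = 0 := Additive.toMul.injective (Subtype.ext hmul)
      exact one_ne_zero ((EmbeddingLike.map_eq_zero_iff (f := ι)).1 hι)
    · rw [hL, show L a = L 1 * a by
        conv_lhs => rw [← mul_one a]
        rw [hLmul, mul_comm]]
  choose σ hσ0 hσ using hscal
  -- every non-zero scalar occurs
  have hσinj : Function.Injective σ := fun d e he => by
    have hd : cj (e⁻¹ * d) (ι 1) = ι 1 := by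
      refine Additive.toMul.injective (Subtype.ext ?_)
      show ((e : G)⁻¹ * d) * (ι (1 : K)).toMul * ((e : G)⁻¹ * d)⁻¹ = (ι (1 : K)).toMul
      have h1 : (d : G) * (ι (1 : K)).toMul * (d : G)⁻¹ = (e : G) * (ι (1 : K)).toMul * (e : G)⁻¹ :=
        congrArg (fun w : Additive ↥(P : Subgroup G) => (w.toMul : G))
          (by rw [hσ d 1, hσ e 1, he] : cj d (ι 1) = cj e (ι 1))
      calc _ = (e : G)⁻¹ * ((d : G) * (ι (1 : K)).toMul * (d : G)⁻¹) * (e : G) := by group
        _ = _ := by rw [h1]; group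
    exact (inv_mul_eq_one.1 (hfix _ _ hd fun e0 =>
      one_ne_zero ((EmbeddingLike.map_eq_zero_iff (f := ι)).1 e0))).symm
  have hσsurj : ∀ s : K, s ≠ 0 → ∃ d, σ d = s := by
    let f : D → {s : K // s ≠ 0} := fun d => ⟨σ d, hσ0 d⟩
    have hf : Function.Bijective f := (Nat.bijective_iff_injective_and_card f).2
      ⟨fun d e he => hσinj (congrArg Subtype.val he), by
        rw [hDc, Nat.card_eq_fintype_card, Fintype.card_subtype_compl, Fintype.card_subtype_eq, hK]⟩
    intro s hs
    obtain ⟨d, hd⟩ := hf.2 ⟨s, hs⟩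
    exact ⟨d, congrArg Subtype.val hd⟩
  -- the points
  let pt : K → Sylow p G := fun x => ((ι x).toMul : G) • Q
  have hpt_ne : ∀ x, pt x ≠ P := fun x e =>
    hQ (MulAction.injective ((ι x).toMul : G) (e.trans (smul_self_of_mem (ι x).toMul.2).symm))
  have hpt_inj : Function.Injective pt := fun x y e => ι.injective (Additive.toMul.injective
    ((h.regular hQ (hpt_ne y)).unique (show ((ι x).toMul : G) • Q = pt y from e) rfl))
  have hpt_surj : ∀ R, R ≠ P → ∃ x, pt x = R := fun R hR => by
    obtain ⟨u, hu, -⟩ := h.regular hQ hR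
    refine ⟨ι.symm (Additive.ofMul u), ?_⟩
    show ((ι (ι.symm (Additive.ofMul u))).toMul : G) • Q = R
    rw [ι.apply_symm_apply]
    exact hu
  have hpt0 : pt 0 = Q := by
    show ((ι 0).toMul : G) • Q = Q
    rw [map_zero]
    exact one_smul G Q
  have hadd : ∀ x y, ((ι x).toMul : G) • pt y = pt (x + y) := fun x y => by
    show ((ι x).toMul : G) • ((ι y).toMul : G) • Q = ((ι (x + y)).toMul : G) • Q
    rw [map_add, toMul_add, Subgroup.coe_mul, mul_smul]
  have hscale : ∀ (d : D) x, (d : G) • pt x = pt (σ d * x) := fun d x => by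
    have h1 : ((ι (σ d * x)).toMul : G) = (d : G) * (ι x).toMul * (d : G)⁻¹ := by
      rw [← hσ]; rfl
    show (d : G) • ((ι x).toMul : G) • Q = ((ι (σ d * x)).toMul : G) • Q
    rw [h1, mul_smul, mul_smul, inv_smul_eq_iff.2 (show (d : G) • Q = Q from d.2.2).symm]
  let e₀ : OnePoint K → Sylow p G := fun z => Option.elim z P pt
  have he₀ : Function.Bijective e₀ := by
    refine ⟨?_, fun R => ?_⟩
    · rintro (_ | x) (_ | y) h'
      · rfl
      · exact absurd h'.symm (hpt_ne y)
      · exact absurd h' (hpt_ne x)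
      · exact congrArg Option.some (hpt_inj h')
    · by_cases hR : R = P
      · exact ⟨∞, hR.symm⟩
      · obtain ⟨x, hx⟩ := hpt_surj R hR
        exact ⟨(x : OnePoint K), hx⟩
  let e := Equiv.ofBijective e₀ he₀
  let Good : G → Prop := fun g => ∃ A : Matrix.ProjGenLinGroup (Fin 2) K, ∀ z, e (A • z) = g • e z
  have hmul : ∀ g g', Good g → Good g' → Good (g * g') := by
    rintro g g' ⟨A, hA⟩ ⟨B, hB⟩
    exact ⟨A * B, fun z => by rw [mul_smul, hA, hB, mul_smul]⟩
  have hinv : ∀ g, Good g → Good g⁻¹ := by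
    rintro g ⟨A, hA⟩
    exact ⟨A⁻¹, fun z => by rw [eq_inv_smul_iff, ← hA, smul_inv_smul]⟩
  have haff : ∀ (g : G) (s w : K), s ≠ 0 → g • P = P → (∀ y, g • pt y = pt (s * y + w)) → Good g := by
    intro g s w hs hga hgy
    refine ⟨Cfsg.Lib.Dickson.aff (Units.mk0 s hs) w, fun z => ?_⟩
    cases z with
    | infty => rw [Cfsg.Lib.Dickson.aff_infty]; exact hga.symm
    | coe x => rw [Cfsg.Lib.Dickson.aff_some]; exact (hgy x).symm
  have hgtr : ∀ w : K, Good ((ι w).toMul : G) := fun w =>
    haff _ 1 w one_ne_zero (smul_self_of_mem (ι w).toMul.2) fun y => by rw [hadd, one_mul, add_comm]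
  have hgD : ∀ d : D, Good (d : G) := fun d =>
    haff _ (σ d) 0 (hσ0 d) d.2.1 fun y => by rw [hscale, add_zero]
  obtain ⟨⟨t, htP, htQ⟩, hsw⟩ := h.swap hQ
  have htt := hsw t htP htQ
  obtain ⟨c, hc⟩ := hpt_surj (t • pt 1) fun e1 => one_ne_zero (hpt_inj (MulAction.injective t
    (show t • pt 1 = t • pt 0 by rw [e1, hpt0, htQ])))
  have hc0 : c ≠ 0 := fun e1 => hpt_ne 1 (MulAction.injective t (show t • pt 1 = t • P by rw [htP, ← hc, e1, hpt0]))
  have htform : ∀ s : K, s ≠ 0 → t • pt s = pt (c / s) := by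
    intro s hs
    obtain ⟨d, hd⟩ := hσsurj s hs
    have h1 : t * (d : G) = (d : G)⁻¹ * t := by
      have h2 := hsw (t * d) (by rw [mul_smul, show (d : G) • P = P from d.2.1, htP])
        (by rw [mul_smul, show (d : G) • Q = Q from d.2.2, htQ])
      have h3 : t * (d : G) * t = (d : G)⁻¹ :=
        eq_inv_of_mul_eq_one_left (by simpa [mul_assoc] using h2)
      rw [← h3, mul_assoc _ t t, htt, mul_one]
    have h4 : σ (d⁻¹) * s = 1 := by
      refine hpt_inj ?_
      rw [← hscale]
      have h5 := hscale d 1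
      rw [hd, mul_one] at h5
      rw [← h5, Subgroup.coe_inv, inv_smul_smul]
    rw [show pt s = (d : G) • pt 1 by rw [hscale, hd, mul_one], smul_smul, h1, mul_smul, ← hc,
      ← Subgroup.coe_inv, hscale, eq_inv_of_mul_eq_one_left h4, mul_comm, ← div_eq_mul_inv]
  have hgt : Good t := by
    refine ⟨Cfsg.Lib.Dickson.flip' (Units.mk0 c hc0), fun z => ?_⟩
    cases z with
    | infty => rw [Cfsg.Lib.Dickson.flip_infty]; exact hpt0.trans htP.symm
    | coe x =>
      rcases eq_or_ne x 0 with rfl | hx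
      · rw [Cfsg.Lib.Dickson.flip_zero]
        show P = t • pt 0
        rw [hpt0, htQ]
      · rw [Cfsg.Lib.Dickson.flip_some _ hx]; exact (htform x hx).symm
  have hstab : ∀ g : G, g • P = P → Good g := by
    intro g hg
    have hgQ : g • Q ≠ P := fun e1 => hQ (MulAction.injective g (e1.trans hg.symm))
    obtain ⟨w, hw⟩ := hpt_surj _ hgQ
    have hd : ((ι w).toMul : G)⁻¹ * g ∈ D :=
      ⟨show (((ι w).toMul : G)⁻¹ * g) • P = P by
        rw [mul_smul, hg, inv_smul_eq_iff, smul_self_of_mem (ι w).toMul.2],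
       show (((ι w).toMul : G)⁻¹ * g) • Q = Q by rw [mul_smul, inv_smul_eq_iff, ← hw]⟩
    have := hmul _ _ (hgtr w) (hgD ⟨_, hd⟩)
    rwa [mul_inv_cancel_left] at this
  have hall : ∀ g : G, Good g := by
    intro g
    by_cases hg : g • P = P
    · exact hstab g hg
    obtain ⟨y, hy⟩ := hpt_surj _ hg
    have h1 : Good (t * ((ι (-y)).toMul : G) * g) := hstab _ (by
      rw [mul_smul, mul_smul, ← hy, hadd, neg_add_cancel, hpt0, htQ])
    have h2 := hmul _ _ (hinv _ (hmul _ _ hgt (hgtr (-y)))) h1
    rwa [inv_mul_cancel_left] at h2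
  choose A hA using hall
  haveI : Finite (Matrix.ProjGenLinGroup (Fin 2) K) :=
    Finite.of_surjective _ (Matrix.ProjGenLinGroup.mk_surjective (n := Fin 2) (R := K))
  let φ : G →* Matrix.ProjGenLinGroup (Fin 2) K :=
    MonoidHom.mk' A fun g g' => pgl_toPerm_injective (Equiv.ext fun z => e.injective (by
      show e (A (g * g') • z) = e ((A g * A g') • z)
      rw [hA, mul_smul, mul_smul, hA, hA]))
  have hinj : Function.Injective φ := by
    rw [injective_iff_map_eq_one]
    intro g hg
    have hfx : ∀ R, g • R = R := fun R => by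
      have h1 := hA g (e.symm R)
      rw [show A g = 1 from hg, one_smul, e.apply_symm_apply] at h1
      exact h1.symm
    exact h.eq_one_of_three (P := P) (Q := pt 0) (R := pt 1) (hpt_ne 0) (hpt_ne 1)
      (fun e1 => one_ne_zero (hpt_inj e1)) (hfx _) (hfx _) (hfx _)
  exact ⟨MulEquiv.ofBijective φ ((Nat.bijective_iff_injective_and_card φ).2 ⟨hinj, by
    rw [h.card, Cfsg.Lib.Dickson.card_PGL_two_eq, hK]⟩)⟩

/-- Field isomorphisms carry over to `PGL(2, ·)`. -/
theorem pgl_congr {K : Type*} {F : Type*} [Field K] [Field F] (f : K ≃+* F) :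
    Nonempty (Matrix.ProjGenLinGroup (Fin 2) K ≃* Matrix.ProjGenLinGroup (Fin 2) F) := by
  let e : GL (Fin 2) K ≃* GL (Fin 2) F := Units.mapEquiv f.mapMatrix.toMulEquiv
  refine ⟨QuotientGroup.congr (Subgroup.center _) (Subgroup.center _) e ?_⟩
  ext x
  show x ∈ (Subgroup.center _).map e.toMonoidHom ↔ _
  rw [Subgroup.mem_map_equiv, Subgroup.mem_center_iff, Subgroup.mem_center_iff]
  constructor
  · intro hx y
    have := congrArg e (hx (e.symm y))
    rwa [map_mul, map_mul, e.apply_symm_apply, e.apply_symm_apply] at this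
  · intro hx y
    have := congrArg e.symm (hx (e y))
    rwa [map_mul, map_mul, e.symm_apply_apply] at this

/-- A group with the order and the element counts of `PGL(2, F)`, `#F` odd, is isomorphic to it. -/
theorem main {F : Type v} [Field F] [Fintype F] (hodd : Odd (Fintype.card F)) (h3 : 3 < Fintype.card F)
    {G : Type u} [Group G] [Finite G]
    (hcard : Nat.card G = Nat.card (Matrix.ProjGenLinGroup (Fin 2) F))
    (hnse : {c : ℕ | 0 < c ∧ ∃ n : ℕ, c = cnt G n} =
      {c : ℕ | 0 < c ∧ ∃ n : ℕ, c = cnt (Matrix.ProjGenLinGroup (Fin 2) F) n}) :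
    Nonempty (G ≃* Matrix.ProjGenLinGroup (Fin 2) F) := by
  obtain ⟨p, hchar⟩ := CharP.exists F
  obtain ⟨k, hp, hk⟩ := FiniteField.card F p
  haveI := Fact.mk hp
  have hp2 : p ≠ 2 := fun e => by
    rw [hk, e, Nat.odd_pow_iff k.pos.ne'] at hodd
    exact absurd hodd (by decide)
  haveI : Finite (Matrix.ProjGenLinGroup (Fin 2) F) :=
    Finite.of_surjective _ (Matrix.ProjGenLinGroup.mk_surjective (n := Fin 2) (R := F))
  have H : Hyp G p k (Fintype.card F) := by
    refine Hyp.of_counts hp hp2 k.pos hk h3 (hcard.trans Cfsg.Lib.Dickson.card_PGL_two_eq) ?_ ?_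
    · obtain ⟨-, n, hn⟩ := (Set.ext_iff.1 hnse (Fintype.card F ^ 2)).2 ⟨by positivity, 2, (cnt_two p hp2).symm⟩
      exact ⟨n, hn.symm⟩
    · intro n
      rcases Nat.eq_zero_or_pos (cnt G n) with e | e
      · exact Or.inr (Or.inr (e ▸ dvd_zero _))
      obtain ⟨-, m, hm⟩ := (Set.ext_iff.1 hnse (cnt G n)).1 ⟨e, n, rfl⟩
      rw [hm]
      by_cases h1 : m = 1
      · exact Or.inl (by rw [h1, cnt_one])
      by_cases h2 : m = p
      · exact Or.inr (Or.inl (h2 ▸ cnt_char p hp2))
      · exact Or.inr (Or.inr (dvd_cnt p hp2 h1 h2))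
  haveI : Fintype (GaloisField p k) := Fintype.ofFinite _
  have hK : Fintype.card (GaloisField p k) = Fintype.card F := by
    rw [← Nat.card_eq_fintype_card, GaloisField.card p k k.pos.ne', hk]
  obtain ⟨e⟩ := H.iso (GaloisField p k) hK
  obtain ⟨e'⟩ := pgl_congr (FiniteField.ringEquivOfCardEq (K := GaloisField p k) (K' := F) hK)
  exact ⟨e.trans e'⟩

end Cfsg.Lib.Recog.PGLNse
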