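import Cfsg.Agent.Lib.Recog.SameOrderCounts
import Mathlib

/-!
# Groups with the order and the element counts of `PGL(2, q)`, `q` odd: the action on Sylow subgroups

By Frobenius' theorem the elements of order divisible by `p` are those of order `p`. So the
centralisers of these are the Sylow subgroups, which are abelian since they are inverted. The group
acts sharply three times transitively on them, and counting incidences of involutions and moved
points shows that every element interchanging two points is an involution.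
-/

set_option autoImplicit false
set_option linter.unusedSectionVars false
set_option linter.style.haveILetI false

namespace Cfsg.Lib.Recog.PGLNse

open Subgroup Cfsg.Lib.Recog.SameOrderCounts
open scoped Pointwise

universe u

variable {G : Type u} [Group G] [Finite G] {p k q : ℕ}

/-- The numerical hypotheses. -/
structure Hyp (G : Type u) [Group G] (p k q : ℕ) : Prop where
  prime : p.Prime
  ne_two : p ≠ 2
  pos : 0 < k
  hq : q = p ^ k
  three : 3 < q
  card : Nat.card G = q * (q ^ 2 - 1)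
  two : cnt G 2 = q ^ 2
  char : cnt G p = q ^ 2 - 1
  sing : ∀ g : G, p ∣ orderOf g → orderOf g = p

/-- The hypotheses follow from the possible values of the counts. -/
theorem Hyp.of_counts (hp : p.Prime) (hp2 : p ≠ 2) (hk : 0 < k) (hq : q = p ^ k) (h3 : 3 < q)
    (hcard : Nat.card G = q * (q ^ 2 - 1)) (hmem : ∃ n, cnt G n = q ^ 2)
    (hval : ∀ n, cnt G n = 1 ∨ cnt G n = q ^ 2 - 1 ∨ q ∣ cnt G n) : Hyp G p k q := by
  classical
  haveI := Fintype.ofFinite G
  have hqodd : Odd q := hq ▸ (hp.odd_of_ne_two hp2).pow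
  have h1q : 1 ≤ q ^ 2 := Nat.one_le_pow _ _ (by omega)
  have hq2 : q ∣ q ^ 2 := dvd_pow_self q two_ne_zero
  have hpq : p ∣ q := hq ▸ dvd_pow_self p hk.ne'
  have htot : ∀ n, cnt G n = 1 → n = 1 ∨ n = 2 := fun n hn =>
    Nat.totient_eq_one_iff.1 (Nat.dvd_one.1 (hn ▸ totient_dvd (G := G) n))
  have h2 : cnt G 2 = q ^ 2 := by
    obtain ⟨n, hn⟩ := hmem
    rcases Nat.lt_or_ge 2 n with h | h
    · have he : Even (q ^ 2) := even_iff_two_dvd.2 (hn ▸ (Nat.totient_even h).two_dvd.trans (totient_dvd (G := G) n))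
      exact absurd he (Nat.not_even_iff_odd.2 hqodd.pow)
    · interval_cases n
      · rw [cnt_zero] at hn; omega
      · rw [cnt_one] at hn; nlinarith
      · exact hn
  have hcop : q.Coprime (q ^ 2 - 1) := by
    rw [Nat.coprime_iff_gcd_eq_one, ← Nat.dvd_one]
    have h := Nat.dvd_sub ((Nat.gcd_dvd_left q (q ^ 2 - 1)).trans hq2) (Nat.gcd_dvd_right q (q ^ 2 - 1))
    rwa [show q ^ 2 - (q ^ 2 - 1) = 1 by omega] at h
  have hcp : cnt G p = q ^ 2 - 1 := by
    have h0 : cnt G p ≠ 0 := cnt_prime hp (hcard ▸ hpq.trans (dvd_mul_right _ _))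
    have hs := prime_dvd_succ hp h0
    rcases hval p with h | h | h
    · rcases htot p h with e | e
      · exact absurd e hp.ne_one
      · exact absurd e hp2
    · exact h
    · exact absurd ((Nat.dvd_add_left (hpq.trans h)).1 hs) hp.not_dvd_one
  set D := (q * (q ^ 2 - 1)).divisors with hD
  have hN0 : q * (q ^ 2 - 1) ≠ 0 := by
    have : 1 < q ^ 2 := by nlinarith
    exact Nat.mul_ne_zero (by omega) (by omega)
  have hsum := card_eq_sum (G := G) D fun g =>
    Nat.mem_divisors.2 ⟨hcard ▸ orderOf_dvd_natCard g, hN0⟩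
  rw [hcard] at hsum
  -- only one count is `q² - 1`
  set A := D.filter fun n => cnt G n = q ^ 2 - 1 with hA
  have hrest : ∀ n ∈ (D.filter fun n => ¬ cnt G n = q ^ 2 - 1), n ≠ 1 → q ∣ cnt G n := by
    intro n hn hn1
    rcases hval n with h | h | h
    · rcases htot n h with e | e
      · exact absurd e hn1
      · rw [e, h2]; exact hq2
    · exact absurd h (Finset.mem_filter.1 hn).2
    · exact h
  have h1mem : (1 : ℕ) ∈ D.filter fun n => ¬ cnt G n = q ^ 2 - 1 := by
    refine Finset.mem_filter.2 ⟨Nat.mem_divisors.2 ⟨one_dvd _, hN0⟩, ?_⟩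
    rw [cnt_one]
    have : 9 ≤ q ^ 2 := by nlinarith
    omega
  have hpmem : p ∈ A :=
    Finset.mem_filter.2 ⟨Nat.mem_divisors.2 ⟨hpq.trans (dvd_mul_right _ _), hN0⟩, hcp⟩
  have hA1 : A.card = 1 := by
    rw [← Finset.sum_filter_add_sum_filter_not D (fun n => cnt G n = q ^ 2 - 1), ← Finset.add_sum_erase _ _ h1mem,
      cnt_one, Finset.sum_congr rfl (fun n hn => (Finset.mem_filter.1 hn).2), Finset.sum_const, smul_eq_mul,
      ← hA] at hsum
    obtain ⟨T, hT⟩ : q ∣ ∑ n ∈ (D.filter fun n => ¬ cnt G n = q ^ 2 - 1).erase 1, cnt G n :=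
      Finset.dvd_sum fun n hn => hrest n (Finset.mem_of_mem_erase hn) (Finset.ne_of_mem_erase hn)
    rw [hT] at hsum
    have hlt : A.card < q := by
      by_contra hh
      have := Nat.mul_le_mul_right (q ^ 2 - 1) (Nat.le_of_not_lt hh)
      omega
    have hd : (q : ℤ) ∣ (A.card : ℤ) - 1 := by
      refine ⟨(A.card : ℤ) * q + T - ((q ^ 2 - 1 : ℕ) : ℤ), ?_⟩
      have hm : ((q ^ 2 - 1 : ℕ) : ℤ) = (q : ℤ) ^ 2 - 1 := by rw [Nat.cast_sub h1q]; push_cast; ring
      have := congrArg (fun x : ℕ => (x : ℤ)) hsum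
      push_cast at this
      rw [hm] at this ⊢
      linear_combination this
    have hpos : 0 < A.card := Finset.card_pos.2 ⟨p, hpmem⟩
    rcases Int.eq_zero_of_dvd_of_nonneg_of_lt (by omega) (by omega) hd with h
    omega
  have honly : ∀ n, cnt G n = q ^ 2 - 1 → n = p := by
    intro n hn
    have hn0 : cnt G n ≠ 0 := by
      have : 9 ≤ q ^ 2 := by nlinarith
      omega
    exact Finset.card_le_one.1 hA1.le n
      (Finset.mem_filter.2 ⟨Nat.mem_divisors.2 ⟨hcard ▸ dvd_card hn0, hN0⟩, hn⟩) p hpmem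
  refine ⟨hp, hp2, hk, hq, h3, hcard, h2, hcp, fun g hg => ?_⟩
  by_contra hne
  -- the elements of order prime to `p`
  have hR := Cfsg.Agent.S3993.result (G := G) (q ^ 2 - 1) (hcard ▸ dvd_mul_left _ _)
  rw [Cfsg.Agent.S4377.key G (by have : 1 < q ^ 2 := by nlinarith
                                 omega)] at hR
  have hfil : D.filter (fun n => ¬ p ∣ n) = (q ^ 2 - 1).divisors := by
    ext n
    rw [Finset.mem_filter, hD, Nat.mem_divisors, Nat.mem_divisors]
    constructor
    · rintro ⟨⟨hn, -⟩, hpn⟩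
      refine ⟨(Nat.Coprime.dvd_of_dvd_mul_left ?_ hn), by
        intro e; rw [e, mul_zero] at hN0; exact hN0 rfl⟩
      rw [hq]
      exact ((hp.coprime_iff_not_dvd.2 hpn).symm).pow_right k
    · rintro ⟨hn, -⟩
      exact ⟨⟨hn.trans (dvd_mul_left _ _), hN0⟩, fun h => hp.not_dvd_one
        (hcop ▸ Nat.dvd_gcd hpq (h.trans hn))⟩
  rw [← Finset.sum_filter_add_sum_filter_not D (fun n => ¬ p ∣ n), hfil] at hsum
  simp only [not_not] at hsum
  have hpD : p ∈ D.filter fun n => p ∣ n :=
    Finset.mem_filter.2 ⟨(Finset.mem_filter.1 hpmem).1, dvd_rfl⟩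
  rw [← Finset.add_sum_erase _ _ hpD, hcp] at hsum
  set X := ∑ n ∈ (D.filter fun n => p ∣ n).erase p, cnt G n with hX
  have hgmem : orderOf g ∈ (D.filter fun n => p ∣ n).erase p := Finset.mem_erase.2
    ⟨hne, Finset.mem_filter.2 ⟨Nat.mem_divisors.2 ⟨hcard ▸ orderOf_dvd_natCard g, hN0⟩, hg⟩⟩
  have hXpos : 0 < X := lt_of_lt_of_le (Nat.pos_of_ne_zero (cnt_self g))
    (Finset.single_le_sum (f := fun n => cnt G n) (fun _ _ => Nat.zero_le _) hgmem)
  have hqX : q ∣ X := Finset.dvd_sum fun n hn => by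
    obtain ⟨hnp, hn⟩ := Finset.mem_erase.1 hn
    obtain ⟨-, hpn⟩ := Finset.mem_filter.1 hn
    rcases hval n with h | h | h
    · rcases htot n h with e | e
      · exact absurd (Nat.dvd_one.1 (e ▸ hpn)) hp.ne_one
      · exact absurd ((Nat.prime_dvd_prime_iff_eq hp Nat.prime_two).1 (e ▸ hpn)) hp2
    · exact absurd (honly n h) hnp
    · exact h
  have hmX : q ^ 2 - 1 ∣ X := by
    have h : q ^ 2 - 1 ∣ q * (q ^ 2 - 1) := dvd_mul_left _ _
    rw [hsum] at h
    exact (Nat.dvd_add_right dvd_rfl).1 ((Nat.dvd_add_right hR).1 h)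
  have hle := Nat.le_of_dvd hXpos (hcop.mul_dvd_of_dvd_of_dvd hqX hmX)
  have : 9 ≤ q ^ 2 := by nlinarith
  omega

variable [Fact p.Prime] (h : Hyp G p k q)

include h

theorem Hyp.qodd : Odd q := h.hq ▸ (h.prime.odd_of_ne_two h.ne_two).pow

theorem Hyp.card_sylow (P : Sylow p G) : Nat.card (P : Subgroup G) = q := by
  rw [P.card_eq_multiplicity, h.hq, h.card, Nat.factorization_mul (by have := h.three; omega)
    (by have : 1 < q ^ 2 := by have := h.three; nlinarith
        omega), Finsupp.add_apply, h.hq, Nat.Prime.factorization_pow h.prime, Finsupp.single_eq_same,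
    Nat.factorization_eq_zero_of_not_dvd, add_zero]
  intro hd
  have hpq : p ∣ (p ^ k) ^ 2 := (dvd_pow_self p h.pos.ne').trans (dvd_pow_self _ two_ne_zero)
  have h1 : 1 ≤ (p ^ k) ^ 2 := Nat.one_le_pow _ _ (pow_pos h.prime.pos _)
  have := Nat.dvd_sub hpq hd
  rw [show (p ^ k) ^ 2 - ((p ^ k) ^ 2 - 1) = 1 by omega] at this
  exact h.prime.not_dvd_one this

/-- Non-trivial elements of a Sylow subgroup have order `p`. -/
theorem Hyp.order_mem {P : Sylow p G} {u : G} (hu : u ∈ (P : Subgroup G)) (hu1 : u ≠ 1) :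
    orderOf u = p := by
  obtain ⟨j, hj⟩ := IsPGroup.iff_orderOf.1 P.isPGroup' ⟨u, hu⟩
  rw [Subgroup.orderOf_mk] at hj
  refine h.sing u (hj ▸ dvd_pow_self p ?_)
  rintro rfl
  rw [pow_zero, orderOf_eq_one_iff] at hj
  exact hu1 hj

/-- Centralisers of elements of order `p` have order dividing `q`. -/
theorem Hyp.centralizer_dvd {x : G} (hx : orderOf x = p) :
    Nat.card (centralizer ({x} : Set G)) ∣ q := by
  obtain ⟨j, hj⟩ : ∃ j, Nat.card (centralizer ({x} : Set G)) = p ^ j := by
    refine ⟨_, Nat.eq_prime_pow_of_unique_prime_dvd Nat.card_pos.ne' fun {r} hr hrd => ?_⟩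
    by_contra hne
    haveI := Fact.mk hr
    obtain ⟨y, hy⟩ := exists_prime_orderOf_dvd_card' r hrd
    rw [← Subgroup.orderOf_coe] at hy
    have hc : Commute x (y : G) := (mem_centralizer_singleton_iff.1 y.2).symm
    have ho := hc.orderOf_mul_eq_mul_orderOf_of_coprime
      (by rw [hx, hy]; exact (Nat.coprime_primes h.prime hr).2 (Ne.symm hne))
    rw [hx, hy] at ho
    have := h.sing _ (ho ▸ dvd_mul_right p r)
    rw [ho] at this
    have := Nat.eq_of_mul_eq_mul_left h.prime.pos (this.trans (mul_one p).symm)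
    exact hr.ne_one this
  rw [hj]
  refine Nat.Coprime.dvd_of_dvd_mul_right (k := p ^ j) (n := q ^ 2 - 1) ?_
    (by rw [← hj, ← h.card]; exact Subgroup.card_subgroup_dvd_card _)
  refine Nat.Coprime.pow_left _ (h.prime.coprime_iff_not_dvd.2 fun hd => ?_)
  have hpq : p ∣ q ^ 2 := (h.hq ▸ dvd_pow_self p h.pos.ne').trans (dvd_pow_self _ two_ne_zero)
  have h1 : 1 ≤ q ^ 2 := Nat.one_le_pow _ _ (by have := h.three; omega)
  have := Nat.dvd_sub hpq hd
  rw [show q ^ 2 - (q ^ 2 - 1) = 1 by omega] at this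
  exact h.prime.not_dvd_one this

/-- A centraliser of an element of order `p` contains no involution. -/
theorem Hyp.no_invol {x t : G} (hx : orderOf x = p) (ht : t * t = 1) (hc : t * x = x * t) : t = 1 := by
  have h1 : orderOf t ∣ 2 := orderOf_dvd_of_pow_eq_one (by rw [pow_two]; exact ht)
  have h2 : orderOf t ∣ q := (Subgroup.orderOf_mk t (mem_centralizer_singleton_iff.2 hc)) ▸
    (_root_.orderOf_dvd_natCard _).trans (h.centralizer_dvd hx)
  have h3 := Nat.dvd_gcd h1 h2
  rw [Nat.coprime_two_left.2 h.qodd] at h3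
  exact orderOf_eq_one_iff.1 (Nat.dvd_one.1 h3)

/-- An involution normalising a Sylow subgroup inverts it. -/
theorem Hyp.inverts {P : Sylow p G} {t : G} (ht : t * t = 1) (ht1 : t ≠ 1)
    (hn : ∀ u ∈ (P : Subgroup G), t * u * t ∈ (P : Subgroup G)) :
    ∀ u ∈ (P : Subgroup G), t * u * t = u⁻¹ := by
  have hti : t⁻¹ = t := inv_eq_of_mul_eq_one_right ht
  let f : ↥(P : Subgroup G) → ↥(P : Subgroup G) := fun u =>
    ⟨u * (t * (u : G)⁻¹ * t), mul_mem u.2 (hn _ (inv_mem u.2))⟩
  have hinj : Function.Injective f := by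
    intro u v e
    have e' : (u : G) * (t * (u : G)⁻¹ * t) = v * (t * (v : G)⁻¹ * t) := congrArg Subtype.val e
    by_contra hne
    refine ht1 (h.no_invol (x := (v : G)⁻¹ * u) (h.order_mem (mul_mem (inv_mem v.2) u.2) fun e1 =>
      hne (Subtype.ext (inv_mul_eq_one.1 e1).symm)) ht ?_)
    have e2 : (u : G) * t * (u : G)⁻¹ = v * t * (v : G)⁻¹ := mul_right_cancel (b := t) (by
      simpa [mul_assoc] using e')
    calc t * ((v : G)⁻¹ * u) = (v : G)⁻¹ * (v * t * (v : G)⁻¹) * u := by group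
      _ = (v : G)⁻¹ * (u * t * (u : G)⁻¹) * u := by rw [e2]
      _ = (v : G)⁻¹ * u * t := by group
  intro w hw
  obtain ⟨u, hu⟩ := Finite.injective_iff_surjective.1 hinj ⟨w, hw⟩
  have e : (u : G) * (t * (u : G)⁻¹ * t) = w := congrArg Subtype.val hu
  rw [← e, mul_inv_rev, mul_inv_rev, mul_inv_rev, inv_inv, hti]
  calc t * ((u : G) * (t * (u : G)⁻¹ * t)) * t = t * u * t * (u : G)⁻¹ * (t * t) := by group
    _ = _ := by rw [ht, mul_one]; group

/-- Each Sylow subgroup is abelian, is inverted, and contains the centralisers of its elements. -/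
theorem Hyp.sylow_basic (P : Sylow p G) :
    (∃ t : G, t * t = 1 ∧ t ≠ 1 ∧ ∀ u ∈ (P : Subgroup G), t * u * t = u⁻¹) ∧
      (∀ u ∈ (P : Subgroup G), ∀ v ∈ (P : Subgroup G), u * v = v * u) ∧
      ∀ u ∈ (P : Subgroup G), u ≠ 1 → centralizer ({u} : Set G) = (P : Subgroup G) := by
  classical
  have hP := h.card_sylow P
  haveI : Nontrivial (P : Subgroup G) := Finite.one_lt_card_iff_nontrivial.1 (by rw [hP]; have := h.three; omega)
  haveI := P.isPGroup'.center_nontrivial
  obtain ⟨⟨z, hz⟩, hz1⟩ := exists_ne (1 : Subgroup.center (P : Subgroup G))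
  set x : G := (z : G) with hxdef
  have hx1 : x ≠ 1 := fun e => hz1 (Subtype.ext (Subtype.ext e))
  have hx : orderOf x = p := h.order_mem z.2 hx1
  have hPle : (P : Subgroup G) ≤ centralizer ({x} : Set G) := fun u hu =>
    mem_centralizer_singleton_iff.2 (congrArg Subtype.val (Subgroup.mem_center_iff.1 hz ⟨u, hu⟩))
  have hCx : centralizer ({x} : Set G) = (P : Subgroup G) :=
    (Subgroup.eq_of_le_of_card_ge hPle (hP.symm ▸ Nat.le_of_dvd (by have := h.three; omega)
      (h.centralizer_dvd hx))).symm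
  -- one class
  have hconj : ∀ y : G, orderOf y = p → ∃ g : G, g * x * g⁻¹ = y := by
    set X : Set G := {y | ∃ g : G, g * x * g⁻¹ = y} with hX
    have hXc : X.ncard * q = q * (q ^ 2 - 1) := by
      have h1 : X = MulAction.orbit (ConjAct G) x := by
        ext y
        simp only [hX, Set.mem_setOf_eq, MulAction.mem_orbit_iff, ConjAct.smul_def]
        exact ⟨fun ⟨g, hg⟩ => ⟨ConjAct.toConjAct g, by simpa using hg⟩, fun ⟨g, hg⟩ => ⟨ConjAct.ofConjAct g, hg⟩⟩
      rw [h1, ← MulAction.index_stabilizer, ConjAct.stabilizer_eq_centralizer]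
      change (centralizer ({x} : Set G)).index * q = _
      rw [hCx, ← h.card, ← (P : Subgroup G).card_mul_index, hP, mul_comm]
    have hXe : X = {y : G | orderOf y = p} := by
      refine Set.eq_of_subset_of_ncard_le ?_ ?_ (Set.toFinite _)
      · rintro _ ⟨g, rfl⟩
        show orderOf (g * x * g⁻¹) = p
        rw [← MulAut.conj_apply, MulEquiv.orderOf_eq, hx]
      · rw [← Nat.card_coe_set_eq, show Nat.card {y : G | orderOf y = p} = q ^ 2 - 1 from h.char]
        rw [mul_comm] at hXc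
        exact (Nat.eq_of_mul_eq_mul_left (by have := h.three; omega) hXc).ge
    intro y hy
    exact (Set.ext_iff.1 hXe y).2 hy
  have hinv : ∃ t : G, t * t = 1 ∧ t ≠ 1 ∧ ∀ u ∈ (P : Subgroup G), t * u * t = u⁻¹ := by
    obtain ⟨g, hg⟩ := hconj x⁻¹ (by rw [orderOf_inv, hx])
    have hg2 : g * g * x * (g * g)⁻¹ = x := by
      calc g * g * x * (g * g)⁻¹ = g * (g * x * g⁻¹) * g⁻¹ := by group
        _ = g * x⁻¹ * g⁻¹ := by rw [hg]
        _ = (g * x * g⁻¹)⁻¹ := by group
        _ = x := by rw [hg, inv_inv]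
    have hggP : g * g ∈ (P : Subgroup G) :=
      hCx ▸ mem_centralizer_singleton_iff.2 (mul_inv_eq_iff_eq_mul.1 hg2)
    obtain ⟨i, hi⟩ := h.prime.odd_of_ne_two h.ne_two
    have hggp : (g * g) ^ p = 1 := by
      by_cases e : g * g = 1
      · rw [e, one_pow]
      · rw [← h.order_mem hggP e, pow_orderOf_eq_one]
    set t := g ^ p with ht
    have htt : t * t = 1 := by rw [ht, ← pow_add, ← two_mul, pow_mul, pow_two, hggp]
    have htx : t * x * t⁻¹ = x⁻¹ := by
      have hci : Commute ((g * g) ^ i) x :=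
        (show Commute (g * g) x from mul_inv_eq_iff_eq_mul.1 hg2).pow_left i
      rw [ht, hi, pow_succ, pow_mul, pow_two]
      calc (g * g) ^ i * g * x * ((g * g) ^ i * g)⁻¹ = (g * g) ^ i * (g * x * g⁻¹) * ((g * g) ^ i)⁻¹ := by group
        _ = x⁻¹ := by rw [hg, hci.inv_right.eq, mul_inv_cancel_right]
    have htne : t ≠ 1 := fun e => by
      rw [e, one_mul, inv_one, mul_one] at htx
      have : orderOf x ∣ 2 := orderOf_dvd_of_pow_eq_one (by rw [pow_two]; nth_rewrite 2 [htx]; exact mul_inv_cancel x)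
      rw [hx] at this
      exact h.ne_two ((Nat.prime_dvd_prime_iff_eq h.prime Nat.prime_two).1 this)
    have hti : t⁻¹ = t := inv_eq_of_mul_eq_one_right htt
    rw [hti] at htx
    refine ⟨t, htt, htne, h.inverts htt htne fun u hu => ?_⟩
    rw [← hCx] at hu ⊢
    have hu' : Commute u x := mem_centralizer_singleton_iff.1 hu
    have h2 : Commute (t * u * t⁻¹) (t * x * t⁻¹) := hu'.map (MulAut.conj t).toMonoidHom
    rw [hti, htx] at h2
    exact mem_centralizer_singleton_iff.2 (show Commute (t * u * t) x by simpa using h2.inv_right).eq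
  obtain ⟨t, htt, -, hinvt⟩ := id hinv
  have hcomm : ∀ u ∈ (P : Subgroup G), ∀ v ∈ (P : Subgroup G), u * v = v * u := by
    intro u hu v hv
    refine inv_injective ?_
    rw [← hinvt _ (mul_mem hu hv), mul_inv_rev v u, ← hinvt u hu, ← hinvt v hv]
    calc t * (u * v) * t = t * u * (t * t) * v * t := by rw [htt, mul_one]; group
      _ = _ := by group
  refine ⟨hinv, hcomm, fun u hu hu1 => ?_⟩
  exact (Subgroup.eq_of_le_of_card_ge (fun v hv => mem_centralizer_singleton_iff.2 (hcomm v hv u hu))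
    (hP.symm ▸ Nat.le_of_dvd (by have := h.three; omega) (h.centralizer_dvd (h.order_mem hu hu1)))).symm

end Cfsg.Lib.Recog.PGLNse
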